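import Groth.Agent.Lib.CurvOpen16.RelDimOne
import Groth.Agent.Lib.AlgSpDecent.GorensteinAt
import Groth.Agent.Lib.Goren15.BaseChange
import Groth.Agent.Lib.SmoothReg17.Basic
import Groth.Agent.S0342
import Groth.Agent.S0341

/-!
# Gorenstein families of curves

Openness of the Gorenstein locus of a flat morphism locally of finite presentation is a hypothesis `hopen` here.
-/

universe u

open CategoryTheory CategoryTheory.Limits AlgebraicGeometry

set_option linter.style.haveILetI false
set_option backward.isDefEq.respectTransparency false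
set_option backward.isDefEq.respectTransparency.types false

namespace Groth.Agent.CurvOpen16

open AlgSp Groth.Agent.AlgSpace

theorem isLocallyNoetherian_fiber' {A B : Scheme.{u}} (h : A ⟶ B) [LocallyOfFiniteType h] (s : B) :
    IsLocallyNoetherian (h.fiber s) :=
  haveI : LocallyOfFiniteType (h.fiberToSpecResidueField s) := inferInstanceAs (LocallyOfFiniteType (pullback.snd _ _))
  LocallyOfFiniteType.isLocallyNoetherian (h.fiberToSpecResidueField s)

/-- Smooth morphisms are Gorenstein. -/
theorem isGorensteinAt_of_smooth {A B : Scheme.{u}} (h : A ⟶ B) [Smooth h] (a : A) : Dual3.IsGorensteinAt h a := by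
  refine ⟨Flat.stalkMap h a, ?_⟩
  haveI : Smooth (h.fiberToSpecResidueField (h a)) := inferInstanceAs (Smooth (pullback.snd _ _))
  haveI := SmoothReg17.isRegularLocalRing_stalk (h.fiberToSpecResidueField (h a)) (h.asFiber a)
  exact S0342.result _

/-- The Gorenstein points form an open locus, given openness. -/
theorem isOpenLocus_gorenstein
    (hopen : ∀ {A B : Scheme.{u}} (h : A ⟶ B) [Flat h] [LocallyOfFinitePresentation h],
      IsOpen {a | Dual3.IsGorensteinAt h a}) :
    IsOpenLocus (fun {A B : Scheme.{u}} (h : A ⟶ B) a => Dual3.IsGorensteinAt h a) where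
  isOpen h _ _ := hopen h
  bc h _ _ h' q g hsq a' := Goren15.isGorensteinAt_baseChange_iff_of_flat h g h' q hsq a'
  precomp {A' A B} e h _ _ _ a' := by
    obtain ⟨h1, h2⟩ := Goren15.isGorensteinAt_comp e h a' (isLocallyNoetherian_fiber' h _)
      (isLocallyNoetherian_fiber' (e ≫ h) _)
    exact ⟨fun H => (h2 H (Flat.stalkMap e a')).2, fun H => h1 (isGorensteinAt_of_smooth e a') H⟩
  postcomp h c _ _ _ a := by
    obtain ⟨h1, h2⟩ := Goren15.isGorensteinAt_comp h c a (isLocallyNoetherian_fiber' c _)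
      (isLocallyNoetherian_fiber' (h ≫ c) _)
    exact ⟨fun H => (h2 H (Flat.stalkMap h a)).1, fun H => h1 H (isGorensteinAt_of_smooth c (h a))⟩

/-- Gorenstein of fibre dimension one. -/
def GorOnePt {A B : Scheme.{u}} (h : A ⟶ B) (a : A) : Prop :=
  Dual3.IsGorensteinAt h a ∧ FlatMor.fibreDimAt h a = ((1 : ℕ) : WithBot ℕ∞)


theorem isOpenLocus_gorOne
    (hopen : ∀ {A B : Scheme.{u}} (h : A ⟶ B) [Flat h] [LocallyOfFinitePresentation h],
      IsOpen {a | Dual3.IsGorensteinAt h a}) :
    IsOpenLocus (fun {A B : Scheme.{u}} (h : A ⟶ B) a => GorOnePt h a) where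
  isOpen {A B} h _ _ := by
    have e : {a | GorOnePt h a} = {a | Dual3.IsGorensteinAt h a} ∩ {a | CMOnePt h a} := by
      ext a
      refine ⟨fun H => ⟨H.1, ?_, H.2⟩, fun H => ⟨H.1, H.2.2⟩⟩
      rw [cm_iff]
      haveI := H.1.2
      exact S0341.result _
    rw [e]
    exact (hopen h).inter (isOpenLocus_cmOne.isOpen h)
  bc h _ _ h' q g hsq a' := by
    haveI : LocallyOfFinitePresentation h' := MorphismProperty.of_isPullback hsq inferInstance
    exact and_congr ((isOpenLocus_gorenstein hopen).bc h h' q g hsq a')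
      (by rw [FibDim14.fibreDimAt_baseChange hsq a'])
  precomp e h _ _ _ a' := and_congr ((isOpenLocus_gorenstein hopen).precomp e h a')
    (by rw [FibDim14.fibreDimAt_etale_comp e h a'])
  postcomp h c _ _ _ a := and_congr ((isOpenLocus_gorenstein hopen).postcomp h c a) (by
    haveI := AlgSpDecent.locallyQuasiFinite_of_etale c
    rw [FibDim14.fibreDimAt_comp_lqf h c a])

variable {S : Scheme.{u}}

theorem gor_and_iff
    (hopen : ∀ {A B : Scheme.{u}} (h : A ⟶ B) [Flat h] [LocallyOfFinitePresentation h],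
      IsOpen {a | Dual3.IsGorensteinAt h a})
    {T : Over S} {X : Sp S} {f : X ⟶ (yon S).obj T} (hX : IsAlgSpace X)
    (hflat : LocP @Flat f) (hlfp : LocP @LocallyOfFinitePresentation f) :
    (LocP (allPts fun h a => Dual3.IsGorensteinAt h a) f ∧
      ∀ x : Points X, HasAtMor (fun _ _ h u => FlatMor.fibreDimAt h u = ((1 : ℕ) : WithBot ℕ∞)) f x) ↔
    LocP (allPts fun h a => GorOnePt h a) f := by
  obtain ⟨U, p, hp, hps⟩ := hX.atlas
  obtain ⟨h, hh⟩ := (yon S).map_surjective (p ≫ f)
  rw [locP_iff (isOpenLocus_gorenstein hopen) hflat hlfp hp hps hh.symm,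
    locP_iff (isOpenLocus_gorOne hopen) hflat hlfp hp hps hh.symm]
  have hh' : p ≫ f = (yon S).map h ≫ 𝟙 _ := by rw [Category.comp_id, hh]
  have hlft : LocP @LocallyOfFiniteType f := AlgSpace.locP_mono (P := @LocallyOfFinitePresentation)
    (Q := @LocallyOfFiniteType) (fun _ _ g (_ : LocallyOfFinitePresentation g) => inferInstance) hlfp
  constructor
  · rintro ⟨h1, h2⟩ u
    exact ⟨h1 u, (AlgSpRel14.hasAtMor_fibreDimAt_iff (R := fun t => t = ((1 : ℕ) : WithBot ℕ∞)) hlft hp
      (repWith_id _ T) hh' u).1 (h2 _)⟩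
  · intro H
    refine ⟨fun u => (H u).1, fun x => ?_⟩
    obtain ⟨u, rfl⟩ := surjective_ofPt hps x
    exact ⟨U, T, p, 𝟙 _, h, u, hp, repWith_id _ T, hh', rfl, (H u).2⟩

theorem gor_line
    (hopen : ∀ {A B : Scheme.{u}} (h : A ⟶ B) [Flat h] [LocallyOfFinitePresentation h],
      IsOpen {a | Dual3.IsGorensteinAt h a})
    {X T : Over S} (k : X ⟶ T) [IsProper k.left] [SmoothOfRelativeDimension 1 k.left] :
    LocP (allPts fun h a => Dual3.IsGorensteinAt h a) ((yon S).map k) := by
  haveI : Smooth k.left := SmoothOfRelativeDimension.smooth 1 k.left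
  have hA := isCurveFam_yon k Fin.elim0 (fun i => i.elim0)
  exact (locP_iff (isOpenLocus_gorenstein hopen) hA.2.1 hA.2.2.2.1.1 (repWith_id _ X) (repWith_id _ X) (h := k)
    (Category.id_comp _)).2 fun a => isGorensteinAt_of_smooth k.left a

end Groth.Agent.CurvOpen16
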