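import Groth.Agent.Lib.CurvOpen16.CutOutU
import Groth.Prelude.Def_AlgSt3

/-! A full subcategory cut out by opens is an open substack, in any universe pair. -/

universe w v u

open CategoryTheory CategoryTheory.Functor CategoryTheory.Limits AlgebraicGeometry Opposite

set_option linter.style.haveILetI false
set_option linter.unusedSectionVars false
set_option backward.isDefEq.respectTransparency false
set_option backward.isDefEq.respectTransparency.types false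

namespace Groth.Agent.CurvOpen16

open Groth.Agent.FC16 Groth.Agent.StAlg Groth.Agent.StAlg16 AlgSt

variable {S : Scheme.{u}} {𝒳 : BasedCategory.{v, w} (Over S)} {Q : 𝒳.obj → Prop}

/-- the map on products induced by the inclusion -/
noncomputable def prodIncl : FibCat.fp (FibCat.toSelf (fullSub 𝒳 Q)) (FibCat.toSelf (fullSub 𝒳 Q)) ⥤ᵇ
    FibCat.fp (FibCat.toSelf 𝒳) (FibCat.toSelf 𝒳) :=
  FibCat.fpLift (BasedFunctor.comp (FibCat.fpFst _ _) (subIncl 𝒳 Q))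
    (BasedFunctor.comp (FibCat.fpSnd _ _) (subIncl 𝒳 Q)) (eqToIso (selfOver_functor_eq _ _))

/-- the diagonal of a strictly full subcategory is the restriction of the diagonal -/
theorem rep1_diag_fullSub (hiso : ObjectProperty.IsClosedUnderIsomorphisms Q)
    (h : AlgSt.RepByAlgSp1 (FibCat.diag (FibCat.toSelf 𝒳))) :
    AlgSt.RepByAlgSp1 (FibCat.diag (FibCat.toSelf (fullSub 𝒳 Q))) := fun U y => by
  haveI := hiso
  let i₂ : BasedFunctor.comp (FibCat.diag (FibCat.toSelf (fullSub 𝒳 Q))) prodIncl ≅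
      BasedFunctor.comp (subIncl 𝒳 Q) (FibCat.diag (FibCat.toSelf 𝒳)) :=
    isoToFp (Iso.refl _) (Iso.refl _)
  let Φ := fpMap (F := y) (G := FibCat.diag (FibCat.toSelf (fullSub 𝒳 Q)))
    (F' := BasedFunctor.comp y prodIncl) (G' := FibCat.diag (FibCat.toSelf 𝒳))
    (a := BasedFunctor.id _) (b := subIncl 𝒳 Q) (s := prodIncl) (Iso.refl _) i₂.symm
  haveI : Φ.toFunctor.Faithful := ⟨fun {a b φ φ'} e => fp_hom_ext
    (show φ.hom.fst = φ'.hom.fst from congrArg (fun t => t.hom.fst) e)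
    (ObjectProperty.hom_ext _ (show φ.hom.snd.hom = φ'.hom.snd.hom from congrArg (fun t => t.hom.snd) e))⟩
  haveI : Φ.toFunctor.Full := ⟨fun {a b} ψ => by
    refine ⟨fpHom (show a.obj.fst ⟶ b.obj.fst from ψ.hom.fst)
      (ObjectProperty.homMk (show a.obj.snd.obj ⟶ b.obj.snd.obj from ψ.hom.snd)) ?_, fp_hom_ext rfl rfl⟩
    have e := fp_w ψ
    apply fp_hom_ext <;> apply ObjectProperty.hom_ext
    · have e1 := congrArg (fun t => t.hom.fst) e
      change (y.map ψ.hom.fst).hom.fst.hom ≫ 𝟙 _ ≫ b.obj.iso.hom.hom.fst.hom ≫ 𝟙 _ =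
        (𝟙 _ ≫ a.obj.iso.hom.hom.fst.hom ≫ 𝟙 _) ≫ ψ.hom.snd at e1
      simp only [Category.comp_id, Category.id_comp] at e1
      exact e1
    · have e2 := congrArg (fun t => t.hom.snd) e
      change (y.map ψ.hom.fst).hom.snd.hom ≫ 𝟙 _ ≫ b.obj.iso.hom.hom.snd.hom ≫ 𝟙 _ =
        (𝟙 _ ≫ a.obj.iso.hom.hom.snd.hom ≫ 𝟙 _) ≫ ψ.hom.snd at e2
      simp only [Category.comp_id, Category.id_comp] at e2
      exact e2⟩
  refine (repByAlgSp_congr (E := Φ) (isEquivOver_of _ fun η => ?_)).2 (h U (BasedFunctor.comp y prodIncl))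
  let b : (FibCat.overCat U).obj := η.obj.fst
  let a : 𝒳.obj := η.obj.snd
  let i1 : (y.obj b).obj.fst.obj ≅ a := (FibCat.fpFst _ _).toFunctor.mapIso η.obj.iso
  let i2 : (y.obj b).obj.snd.obj ≅ a := (FibCat.fpSnd _ _).toFunctor.mapIso η.obj.iso
  let a' : (fullSub 𝒳 Q).obj := ⟨a, ObjectProperty.prop_of_iso Q i1 (y.obj b).obj.fst.property⟩
  let j1 : (y.obj b).obj.fst ≅ a' := ObjectProperty.isoMk _ i1
  let j2 : (y.obj b).obj.snd ≅ a' := ObjectProperty.isoMk _ i2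
  let J : y.obj b ≅ (FibCat.diag (FibCat.toSelf (fullSub 𝒳 Q))).obj a' := fpIsoMk j1 j2 (by
    let T := (FibCat.overCat U).p.obj b
    haveI := iso_lift η (U := T) rfl
    haveI h1 : 𝒳.p.IsHomLift (𝟙 T) i1.hom := isHomLift_fst (𝟙 T) η.obj.iso.hom
    haveI h2 : 𝒳.p.IsHomLift (𝟙 T) i2.hom := isHomLift_snd (𝟙 T) η.obj.iso.hom
    haveI h3 := iso_lift (y.obj b) (U := T) (y.w_obj b)
    show 𝒳.p.map i1.hom ≫ 𝟙 _ = (y.obj b).obj.iso.hom ≫ 𝒳.p.map i2.hom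
    have e := IsHomLift.fac' (FibCat.selfOver (Over S)).p (𝟙 T) (y.obj b).obj.iso.hom
    change (y.obj b).obj.iso.hom = _ at e
    rw [IsHomLift.fac' 𝒳.p (𝟙 T) i1.hom, IsHomLift.fac' 𝒳.p (𝟙 T) i2.hom, e]
    simp only [Category.id_comp, Category.comp_id, eqToHom_trans])
  have hJ : (FibCat.fp (FibCat.toSelf (fullSub 𝒳 Q)) (FibCat.toSelf (fullSub 𝒳 Q))).p.IsHomLift
      (𝟙 ((FibCat.overCat U).p.obj b)) J.hom := by
    haveI := iso_lift η (U := (FibCat.overCat U).p.obj b) rfl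
    haveI : (fullSub 𝒳 Q).p.IsHomLift (𝟙 ((FibCat.overCat U).p.obj b)) J.hom.hom.fst :=
      (fullSub_isHomLift_iff _ _).2 (show 𝒳.p.IsHomLift (𝟙 ((FibCat.overCat U).p.obj b)) η.obj.iso.hom.hom.fst
        from isHomLift_fst _ _)
    exact isHomLift_of_fst _ _
  let o : (FibCat.fp y (FibCat.diag (FibCat.toSelf (fullSub 𝒳 Q)))).obj := ⟨{ fst := b, snd := a', iso := J }, hJ⟩
  refine ⟨o, fpIsoMk (Iso.refl _) (Iso.refl _) ?_, ?_⟩
  · apply fp_hom_ext
    · show (y.map (𝟙 b)).hom.fst.hom ≫ η.obj.iso.hom.hom.fst =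
        (𝟙 _ ≫ η.obj.iso.hom.hom.fst ≫ 𝟙 _) ≫ 𝟙 a
      rw [CategoryTheory.Functor.map_id]
      show 𝟙 _ ≫ η.obj.iso.hom.hom.fst = _
      simp only [Category.id_comp, Category.comp_id]
      exact (Category.comp_id _).symm
    · show (y.map (𝟙 b)).hom.snd.hom ≫ η.obj.iso.hom.hom.snd =
        (𝟙 _ ≫ η.obj.iso.hom.hom.snd ≫ 𝟙 _) ≫ 𝟙 a
      rw [CategoryTheory.Functor.map_id]
      show 𝟙 _ ≫ η.obj.iso.hom.hom.snd = _
      simp only [Category.id_comp, Category.comp_id]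
      exact (Category.comp_id _).symm
  · exact @isHomLift_of_fst _ _ _ _ _ _ _ _ _ _ _ _ _ (IsHomLift.id rfl)

theorem CutsOut.isAlgStack {P : MorphismProperty Scheme.{u}} [P.IsStableUnderBaseChange]
    (h𝒳 : IsAlgStack Scheme.fppfPrecoverage 𝒳)
    (hiso : ObjectProperty.IsClosedUnderIsomorphisms Q) (hQ : CutsOut P Q) :
    IsAlgStack Scheme.fppfPrecoverage (fullSub 𝒳 Q) := by
  refine ⟨hQ.isStack h𝒳 hiso, rep1_diag_fullSub hiso h𝒳.diag, ?_⟩
  obtain ⟨U, x, hx, hxs⟩ := h𝒳.atlas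
  obtain ⟨Z, ι, E, -, hE, -, -⟩ := hQ.exists_fp h𝒳 hiso x
  refine ⟨Z, BasedFunctor.comp E (FibCat.fpSnd x (subIncl 𝒳 Q)), ?_, ?_⟩
  · exact (with_congr (f := FibCat.fpSnd x (subIncl 𝒳 Q)) (a := E) (b := BasedFunctor.id _) hE isEquivOver_id
      (Iso.refl _)).1 (with_fpSnd _ hx)
  · exact (with_congr (f := FibCat.fpSnd x (subIncl 𝒳 Q)) (a := E) (b := BasedFunctor.id _) hE isEquivOver_id
      (Iso.refl _)).1 (with_fpSnd _ hxs)

theorem CutsOut.isOpenSubstack (h𝒳 : IsAlgStack Scheme.fppfPrecoverage 𝒳)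
    (hiso : ObjectProperty.IsClosedUnderIsomorphisms Q) (hQ : CutsOut @IsOpenImmersion Q) :
    AlgSt.IsOpenSubstack 𝒳 Q Scheme.fppfPrecoverage :=
  ⟨hiso, hQ.isAlgStack h𝒳 hiso, hQ.with_subIncl h𝒳 hiso⟩

end Groth.Agent.CurvOpen16
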