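import Groth.Agent.Lib.CurvOpen16.AlgSub
import Groth.Agent.Lib.AlgSpace.Proper
import Groth.Agent.Lib.AlgSpace.Points
import Groth.Agent.Lib.AlgSpDecent.Basic
import Groth.Prelude.Def_StCurv2

/-!
# Conditions on curves given pointwise on etale charts cut out open substacks

Let `L` be a condition on a point of the source of a morphism of schemes which, for flat morphisms locally of finite
presentation, is open, compatible with base change and etale local on source and target.  Then the families of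
curves satisfying `L` everywhere form an open substack: over the base of a family the condition holds outside the
image of the closed set of bad points of an atlas, closed as the structure morphism is universally closed.
-/

universe u

open CategoryTheory CategoryTheory.Functor CategoryTheory.Limits AlgebraicGeometry Opposite

set_option linter.style.haveILetI false
set_option backward.isDefEq.respectTransparency false
set_option backward.isDefEq.respectTransparency.types false

namespace Groth.Agent.CurvOpen16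

open AlgSp Groth.Agent.AlgSpace Groth.Agent.AlgSpDecent

/-- A condition at a point which is open, stable under base change and etale local. -/
structure IsOpenLocus (L : ∀ {A B : Scheme.{u}}, (A ⟶ B) → A → Prop) : Prop where
  isOpen : ∀ {A B : Scheme.{u}} (h : A ⟶ B) [Flat h] [LocallyOfFinitePresentation h], IsOpen {a | L h a}
  bc : ∀ {A B A' B' : Scheme.{u}} (h : A ⟶ B) [Flat h] [LocallyOfFinitePresentation h] (h' : A' ⟶ B')
    (q : A' ⟶ A) (g : B' ⟶ B), IsPullback q h' h g → ∀ a', L h' a' ↔ L h (q a')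
  precomp : ∀ {A' A B : Scheme.{u}} (e : A' ⟶ A) (h : A ⟶ B) [Etale e] [Flat h] [LocallyOfFinitePresentation h]
    (a' : A'), L (e ≫ h) a' ↔ L h (e a')
  postcomp : ∀ {A B C : Scheme.{u}} (h : A ⟶ B) (c : B ⟶ C) [Etale c] [Flat h] [LocallyOfFinitePresentation h]
    (a : A), L (h ≫ c) a ↔ L h a

variable {S : Scheme.{u}} {L : ∀ {A B : Scheme.{u}}, (A ⟶ B) → A → Prop}

/-- The morphism property of holding at every point. -/
abbrev allPts (L : ∀ {A B : Scheme.{u}}, (A ⟶ B) → A → Prop) : MorphismProperty Scheme.{u} :=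
  fun _ _ g => ∀ x, L g x

/-- `L` at two points of charts over the same point of the space. -/
theorem iff_of_charts (hL : IsOpenLocus L) {X : Sp S} {T U U₁ V₁ : Over S} {f : X ⟶ (yon S).obj T}
    (hflat : LocP @Flat f) (hlfp : LocP @LocallyOfFinitePresentation f)
    {p : (yon S).obj U ⟶ X} (hp : RepWith @Etale p) {h : U ⟶ T} (hh : p ≫ f = (yon S).map h)
    {a : (yon S).obj U₁ ⟶ X} {b : (yon S).obj V₁ ⟶ (yon S).obj T} {h₁ : U₁ ⟶ V₁} (ha : RepWith @Etale a)
    (hb : RepWith @Etale b) (w : a ≫ f = (yon S).map h₁ ≫ b) {u : U.left} {u₁ : U₁.left}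
    (e : Points.ofPt a u₁ = Points.ofPt p u) : L h₁.left u₁ ↔ L h.left u := by
  obtain ⟨c, rfl⟩ := (yon S).map_surjective b
  haveI : Etale c.left := (repWith_yon_map_iff @Etale c).1 hb
  haveI : Flat h₁.left := hflat a _ h₁ ha hb w
  haveI : LocallyOfFinitePresentation h₁.left := hlfp a _ h₁ ha hb w
  have hh' : p ≫ f = (yon S).map h ≫ 𝟙 _ := by rw [hh, Category.comp_id]
  haveI : Flat h.left := hflat p (𝟙 _) h hp (repWith_id _ T) hh'
  haveI : LocallyOfFinitePresentation h.left := hlfp p (𝟙 _) h hp (repWith_id _ T) hh'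
  have sq := hp.1.isPullback a
  haveI : Etale (hp.1.snd a).left := hp.2 a _ _ sq
  obtain ⟨q, hq⟩ := (yon S).map_surjective (hp.1.fst a)
  rw [← hq] at sq
  haveI : Etale q.left := (repWith_yon_map_iff @Etale q).1 (repWith_of_isPullback sq.flip ha)
  obtain ⟨z, hz, hz'⟩ := exists_point_lift sq (Points.ofScheme U u) (Points.ofScheme U₁ u₁) (by
    rw [← Points.ofPt_eq_map_ofScheme, ← Points.ofPt_eq_map_ofScheme, e])
  obtain ⟨w', rfl⟩ := (Points.schemeEquiv _).surjective z
  have e₁ : q.left w' = u := (Points.schemeEquiv U).injective ((Points.map_yon_map_apply q w').symm.trans hz)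
  have e₂ : (hp.1.snd a).left w' = u₁ :=
    (Points.schemeEquiv U₁).injective ((Points.map_yon_map_apply _ w').symm.trans hz')
  have hcomp : q ≫ h = hp.1.snd a ≫ h₁ ≫ c := (yon S).map_injective (by
    rw [Functor.map_comp, Functor.map_comp, Functor.map_comp, ← hh, ← w, ← Category.assoc, sq.w, Category.assoc])
  have hl : q.left ≫ h.left = (hp.1.snd a).left ≫ h₁.left ≫ c.left := congrArg (fun t => t.left) hcomp
  haveI : Flat (h₁.left ≫ c.left) := inferInstance
  calc L h₁.left u₁ ↔ L (h₁.left ≫ c.left) ((hp.1.snd a).left w') := by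
        rw [e₂]; exact (hL.postcomp h₁.left c.left u₁).symm
    _ ↔ L ((hp.1.snd a).left ≫ h₁.left ≫ c.left) w' :=
        (hL.precomp (hp.1.snd a).left (h₁.left ≫ c.left) w').symm
    _ ↔ L (q.left ≫ h.left) w' := by rw [hl]
    _ ↔ L h.left (q.left w') := hL.precomp q.left h.left w'
    _ ↔ L h.left u := by rw [e₁]

/-- Reading the condition on one atlas. -/
theorem locP_iff (hL : IsOpenLocus L) {X : Sp S} {T U : Over S} {f : X ⟶ (yon S).obj T}
    (hflat : LocP @Flat f) (hlfp : LocP @LocallyOfFinitePresentation f)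
    {p : (yon S).obj U ⟶ X} (hp : RepWith @Etale p) (hps : RepWith @Surjective p) {h : U ⟶ T}
    (hh : p ≫ f = (yon S).map h) : LocP (allPts L) f ↔ ∀ u, L h.left u := by
  refine ⟨fun H => H p (𝟙 _) h hp (repWith_id _ T) (by rw [hh, Category.comp_id]), fun H U₁ V₁ a b h₁ ha hb w u₁ => ?_⟩
  obtain ⟨u, hu⟩ := surjective_ofPt hps (Points.ofPt a u₁)
  exact (iff_of_charts hL hflat hlfp hp hh ha hb w hu.symm).2 (H u)

theorem isOpenSubstack_of_open {𝒳 : BasedCategory.{u + 1, u + 2} (Over S)}
    (h𝒳 : AlgSt.IsAlgStack Scheme.fppfPrecoverage 𝒳) (Q : 𝒳.obj → Prop) (V : ∀ a : 𝒳.obj, (𝒳.p.obj a).left.Opens)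
    (H : ∀ {a' a : 𝒳.obj} (φ : a' ⟶ a), Q a' ↔ Set.range (𝒳.p.map φ).left ⊆ (V a : Set (𝒳.p.obj a).left)) :
    AlgSt.IsOpenSubstack 𝒳 Q Scheme.fppfPrecoverage := by
  have hiso : ObjectProperty.IsClosedUnderIsomorphisms Q := ⟨fun {a b} e ha => (H e.inv).2 fun x _ => by
    have h1 := (H (𝟙 a)).1 ha
    rw [CategoryTheory.Functor.map_id] at h1
    exact h1 ⟨x, rfl⟩⟩
  refine CutsOut.isOpenSubstack h𝒳 hiso fun U y => ?_
  let a := y.obj (Over.mk (𝟙 U))
  have ha : 𝒳.p.obj a = U := y.w_obj _
  let W : U.left.Opens := (eqToHom ha.symm).left ⁻¹ᵁ (V a)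
  let ι : Over.mk (W.ι ≫ U.hom) ⟶ U := Over.homMk W.ι
  haveI hmono : Mono ι := ⟨fun {Z} a b h => Over.OverMorphism.ext
    ((cancel_mono W.ι).1 (congrArg (fun t => t.left) h))⟩
  refine ⟨_, ι, (inferInstance : IsOpenImmersion W.ι), hmono, fun b => ?_⟩
  let m : b ⟶ Over.mk (𝟙 U) := Over.homMk b.hom (Category.comp_id b.hom)
  haveI : (FibCat.overCat U).p.IsHomLift b.hom m := IsHomLift.map (FibCat.overCat U).p m
  haveI := BasedFunctor.preserves_isHomLift y b.hom m
  have hm : (𝒳.p.map (y.map m)).left = ((eqToHom (y.w_obj b)).left ≫ b.hom.left) ≫ (eqToHom ha.symm).left := by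
    rw [IsHomLift.fac' 𝒳.p b.hom (y.map m)]
    rw [Over.comp_left, Over.comp_left, Category.assoc]
  have hsurj : Function.Surjective (eqToHom (y.w_obj b)).left := fun x => ⟨(eqToHom (y.w_obj b).symm).left x, by
    rw [← Scheme.Hom.comp_apply, ← Over.comp_left, eqToHom_trans]; rfl⟩
  refine (H (y.map m)).trans ?_
  rw [hm]
  constructor
  · intro h
    have hb : Set.range b.hom.left ⊆ Set.range W.ι := by
      rw [Scheme.Opens.range_ι]
      rintro _ ⟨x, rfl⟩
      obtain ⟨x', rfl⟩ := hsurj x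
      exact h ⟨x', rfl⟩
    exact ⟨Over.homMk (IsOpenImmersion.lift W.ι b.hom.left hb) (by
      show _ ≫ W.ι ≫ U.hom = _
      rw [IsOpenImmersion.lift_fac_assoc, Over.w]), Over.OverMorphism.ext (IsOpenImmersion.lift_fac _ _ _)⟩
  · rintro ⟨l, hl⟩ _ ⟨x, rfl⟩
    have : b.hom.left ((eqToHom (y.w_obj b)).left x) ∈ Set.range W.ι := ⟨l.left ((eqToHom (y.w_obj b)).left x), by
      exact (Scheme.Hom.comp_apply _ _ _).symm.trans
        (congrArg (fun t => t.left ((eqToHom (y.w_obj b)).left x)) hl)⟩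
    rw [Scheme.Opens.range_ι] at this
    exact this

/-- Families of curves satisfying an open pointwise condition on all charts form an open substack. -/
theorem isOpenSubstack_curves (hL : IsOpenLocus L) {n : ℕ}
    (hC : AlgSt.IsAlgStack Scheme.fppfPrecoverage (CurvSt.Curves S n)) :
    AlgSt.IsOpenSubstack (CurvSt.Curves S n) (fun A => LocP (allPts L) A.obj.f) Scheme.fppfPrecoverage := by
  have hC₂ : ∀ A : (CurvSt.Curves S n).obj, ∃ (U : Over S) (p : (yon S).obj U ⟶ A.obj.X) (h : U ⟶ A.obj.base),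
      RepWith @Etale p ∧ RepWith @Surjective p ∧ p ≫ A.obj.f = (yon S).map h := fun A => by
    obtain ⟨U, p, hp, hps⟩ := A.property.1.atlas
    obtain ⟨h, hh⟩ := (yon S).map_surjective (p ≫ A.obj.f)
    exact ⟨U, p, h, hp, hps, hh.symm⟩
  choose U p h hp hps hh using hC₂
  have hfl : ∀ A, Flat (h A).left := fun A =>
    A.property.2.1 (p A) (𝟙 _) (h A) (hp A) (repWith_id _ _) (by rw [hh A, Category.comp_id])
  have hfp : ∀ A, LocallyOfFinitePresentation (h A).left := fun A =>
    A.property.2.2.2.1.1 (p A) (𝟙 _) (h A) (hp A) (repWith_id _ _) (by rw [hh A, Category.comp_id])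
  have hclosed : ∀ A, IsClosed ((h A).left '' {u | ¬ L (h A).left u}) := fun A => by
    haveI := hfl A; haveI := hfp A
    let Z : Set (U A).left := {u | ¬ L (h A).left u}
    have hZ : IsClosed Z := (hL.isOpen (h A).left).isClosed_compl
    have hsat : Points.ofPt (p A) ⁻¹' (Points.ofPt (p A) '' Z) = Z := by
      refine Set.Subset.antisymm ?_ (Set.subset_preimage_image _ _)
      rintro u ⟨z, hz, e⟩ hu
      exact hz ((iff_of_charts hL A.property.2.1 A.property.2.2.2.1.1 (hp A) (hh A) (hp A) (repWith_id _ _)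
        (by rw [hh A, Category.comp_id]) e).2 hu)
    have h1 : IsClosed (Points.ofPt (p A) '' Z) :=
      (isOpenQuotientMap_ofPt (hp A) (hps A)).isQuotientMap.isClosed_preimage.1 (by rwa [hsat])
    have h2 := isClosedMap_of_isUnivClosedMor (IsAlgSpace.yon_obj _) A.property.2.2.1.2.2 _ h1
    have h3 : Points.map A.obj.f '' (Points.ofPt (p A) '' Z) =
        Points.schemeHomeo A.obj.base '' ((h A).left '' Z) := by
      rw [Set.image_image, Set.image_image]
      exact Set.image_congr fun z _ => by rw [Points.map_ofPt, hh A, ofPt_map_eq]; rfl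
    rw [h3] at h2
    exact (Points.schemeHomeo A.obj.base).isClosed_image.1 h2
  refine isOpenSubstack_of_open hC _ (fun A => ⟨_, (hclosed A).isOpen_compl⟩) fun {A' A} φ => ?_
  have sq : IsPullback φ.hom.top A'.obj.f A.obj.f ((yon S).map φ.hom.base) := φ.hom.cart
  let g := φ.hom.base
  haveI := hfl A; haveI := hfp A
  let q : pullback (h A) g ⟶ U A := pullback.fst (h A) g
  let h' : pullback (h A) g ⟶ A'.obj.base := pullback.snd (h A) g
  have sqy : IsPullback ((yon S).map q) ((yon S).map h') ((yon S).map (h A)) ((yon S).map g) :=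
    (IsPullback.of_hasPullback (h A) g).map (yon S)
  let p' := sq.lift ((yon S).map q ≫ p A) ((yon S).map h') (by rw [Category.assoc, hh A, sqy.w])
  have sq' : IsPullback ((yon S).map q) p' (p A) φ.hom.top := by
    refine IsPullback.of_bot ?_ (sq.lift_fst _ _ _).symm sq
    rwa [sq.lift_snd, hh A]
  rw [locP_iff hL A'.property.2.1 A'.property.2.2.2.1.1 (repWith_of_isPullback sq' (hp A))
    (repWith_of_isPullback sq' (hps A)) (sq.lift_snd _ _ _)]
  have hsq : IsPullback q.left h'.left (h A).left g.left :=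
    (IsPullback.of_hasPullback (h A) g).map (Over.forget S)
  constructor
  · rintro H _ ⟨t', rfl⟩ ⟨z, hz, e⟩
    obtain ⟨w, hw1, -⟩ := Scheme.exists_preimage_of_isPullback hsq z t' e
    exact hz (hw1 ▸ (hL.bc _ _ _ _ hsq w).1 (H w))
  · intro H w
    refine (hL.bc _ _ _ _ hsq w).2 (by_contra fun hn => H ⟨h'.left w, rfl⟩ ⟨q.left w, hn, ?_⟩)
    show (h A).left (q.left w) = g.left (h'.left w)
    rw [← Scheme.Hom.comp_apply, hsq.w, Scheme.Hom.comp_apply]

end Groth.Agent.CurvOpen16
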