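import Groth.Agent.Lib.CurvOpen16.Line
import Groth.Agent.Lib.CI2.BaseFieldScheme
import Groth.Agent.Lib.CI2.AvramovMap
import Groth.Agent.S2863
import Groth.Agent.S2164
import Groth.Agent.S2169
import Groth.Agent.S8660
import Groth.Prelude.Def_AlgSpMor6

/-! Complete intersection points of flat morphisms form an open locus. -/

universe u

open CategoryTheory CategoryTheory.Limits AlgebraicGeometry

set_option linter.style.haveILetI false
set_option backward.isDefEq.respectTransparency false
set_option backward.isDefEq.respectTransparency.types false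

namespace Groth.Agent.CurvOpen16

open IsLocalRing

/-- Complete intersection local rings are etale local. -/
theorem ci_stalk_etale {A B : Scheme.{u}} [IsLocallyNoetherian B] (e : A ⟶ B) [Etale e] (a : A) :
    Pi1.IsCompleteIntersection (A.presheaf.stalk a) ↔ Pi1.IsCompleteIntersection (B.presheaf.stalk (e a)) := by
  haveI : IsLocallyNoetherian A := LocallyOfFiniteType.isLocallyNoetherian e
  algebraize [(e.stalkMap a).hom]
  haveI : IsLocalHom (algebraMap (B.presheaf.stalk (e a)) (A.presheaf.stalk a)) :=
    inferInstanceAs (IsLocalHom (e.stalkMap a).hom)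
  haveI : Module.Flat (B.presheaf.stalk (e a)) (A.presheaf.stalk a) := Flat.stalkMap e a
  have hm : (maximalIdeal (B.presheaf.stalk (e a))).map (algebraMap (B.presheaf.stalk (e a)) (A.presheaf.stalk a)) =
      maximalIdeal (A.presheaf.stalk a) :=
    Groth.Agent.Weight.map_maximalIdeal_eq (e.stalkMap a).hom (FormallyUnramified.stalkMap e a)
      (LocallyOfFiniteType.stalkMap e a)
  let ef := Ideal.quotEquivOfEq hm
  haveI : IsLocalRing (A.presheaf.stalk a ⧸
      (maximalIdeal (B.presheaf.stalk (e a))).map (algebraMap (B.presheaf.stalk (e a)) (A.presheaf.stalk a))) :=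
    ef.symm.isLocalRing
  haveI : IsRegularLocalRing (ResidueField (A.presheaf.stalk a)) := inferInstance
  rw [S2164.result (A := B.presheaf.stalk (e a)) (B := A.presheaf.stalk a)]
  exact and_iff_left (S2169.isCI_congr ef (CI2.ci_of_regular (R := ResidueField (A.presheaf.stalk a))))

theorem isLocallyNoetherian_fiber {A B : Scheme.{u}} (h : A ⟶ B) [LocallyOfFiniteType h] (s : B) :
    IsLocallyNoetherian (h.fiber s) :=
  haveI : LocallyOfFiniteType (h.fiberToSpecResidueField s) := inferInstanceAs (LocallyOfFiniteType (pullback.snd _ _))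
  LocallyOfFiniteType.isLocallyNoetherian (h.fiberToSpecResidueField s)

/-- The fibre local ring is a complete intersection. -/
def CIPt {A B : Scheme.{u}} (h : A ⟶ B) (a : A) : Prop := Pi1.IsCompleteIntersection (CInt.fiberStalk h a)

theorem isOpenLocus_ciPt : IsOpenLocus (fun {A B : Scheme.{u}} (h : A ⟶ B) a => CIPt h a) where
  isOpen h _ _ := (S2863.result h).1
  bc h _ _ h' q g hsq a' := CI2.ci_fiber_iff_baseChange h g q h' hsq a'
  precomp {A' A B} e h _ _ _ a' := by
    let s := (e ≫ h) a'
    let pr : (e ≫ h).fiber s ⟶ h.fiber s := pullback.lift ((e ≫ h).fiberι s ≫ e) ((e ≫ h).fiberToSpecResidueField s)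
      (by rw [Category.assoc]; exact (e ≫ h).fiber_fac s)
    have hpr : IsPullback ((e ≫ h).fiberι s) pr e (h.fiberι s) :=
      IsPullback.of_bot (h₂₁ := h.fiberι s) (by
        have e' : pr ≫ pullback.snd h (B.fromSpecResidueField s) = (e ≫ h).fiberToSpecResidueField s :=
          pullback.lift_snd _ _ _
        have hb : IsPullback ((e ≫ h).fiberι s) ((e ≫ h).fiberToSpecResidueField s) (e ≫ h)
            (B.fromSpecResidueField s) := IsPullback.of_hasPullback _ _
        rw [← e'] at hb
        exact hb)
        (pullback.lift_fst _ _ _).symm (IsPullback.of_hasPullback h (B.fromSpecResidueField s))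
    haveI : Etale pr := MorphismProperty.of_isPullback hpr inferInstance
    haveI := isLocallyNoetherian_fiber h s
    have hz : pr ((e ≫ h).asFiber a') = h.asFiber (e a') := (h.fiberι s).isEmbedding.injective (by
      rw [← Scheme.Hom.comp_apply, ← hpr.w, Scheme.Hom.comp_apply, Scheme.Hom.fiberι_asFiber]
      exact (h.fiberι_asFiber (e a')).symm)
    refine (ci_stalk_etale pr ((e ≫ h).asFiber a')).trans ?_
    rw [hz]
    exact Iff.rfl
  postcomp h c _ _ _ a := by
    obtain ⟨e₁⟩ := Goren15.nonempty_asFiberEquiv (h ≫ c) a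
    obtain ⟨e₂⟩ := AlgSpDecent.GorAt.nonempty_fibQuot_comp_etale h c a
    obtain ⟨e₃⟩ := Goren15.nonempty_asFiberEquiv h a
    let e := e₁.symm.trans (e₂.trans e₃)
    haveI := isLocallyNoetherian_fiber h (h a)
    haveI := isLocallyNoetherian_fiber (h ≫ c) ((h ≫ c) a)
    exact ⟨fun H => S2169.isCI_congr e.symm H, fun H => S2169.isCI_congr e H⟩

variable {S : Scheme.{u}}

theorem isLCIMor_iff {X : AlgSp.Sp S} {T : Over S} {f : X ⟶ (AlgSp.yon S).obj T} (hflat : AlgSp.LocP @Flat f)
    (hlfp : AlgSp.LocP @LocallyOfFinitePresentation f) :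
    AlgSp.IsLCIMor f ↔ AlgSp.LocP (allPts fun h a => CIPt h a) f := by
  constructor
  · intro H U V a b h ha hb w
    haveI := hflat a b h ha hb w
    haveI := hlfp a b h ha hb w
    exact ((S8660.result h.left).1 (H a b h ha hb w)).2.2
  · intro H U V a b h ha hb w
    haveI := hflat a b h ha hb w
    haveI := hlfp a b h ha hb w
    exact (S8660.result h.left).2 ⟨inferInstance, inferInstance, H a b h ha hb w⟩

theorem isOpenSubstack_lci (hC : AlgSt.IsAlgStack Scheme.fppfPrecoverage (CurvSt.Curves S 0)) :
    AlgSt.IsOpenSubstack (CurvSt.Curves S 0) (fun A => AlgSp.IsLCIMor A.obj.f) Scheme.fppfPrecoverage := by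
  rw [funext fun A : (CurvSt.Curves S 0).obj => propext (isLCIMor_iff A.property.2.1 A.property.2.2.2.1.1)]
  exact isOpenSubstack_curves isOpenLocus_ciPt hC

end Groth.Agent.CurvOpen16
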