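import Groth.Agent.Lib.CurvOpen16.Loci
import Groth.Agent.Lib.AlgSpace.Proper
import Groth.Agent.Lib.ProjSpace.Basic
import Groth.Agent.Lib.StAlg16.LocPInst

/-! The projective line as a family of curves over a field. -/

universe u

open CategoryTheory CategoryTheory.Limits AlgebraicGeometry

set_option linter.style.haveILetI false
set_option backward.isDefEq.respectTransparency false
set_option backward.isDefEq.respectTransparency.types false

namespace Groth.Agent.CurvOpen16

open AlgSp Groth.Agent.AlgSpace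

variable {S : Scheme.{u}}

/-- A proper smooth morphism of relative dimension one is a family of curves. -/
theorem isCurveFam_yon {X T : Over S} (k : X ⟶ T) [IsProper k.left] [SmoothOfRelativeDimension 1 k.left]
    (sect : Fin 0 → ((AlgSp.yon S).obj T ⟶ (AlgSp.yon S).obj X)) (hs) :
    CurvSt.IsCurveFam (⟨T, (AlgSp.yon S).obj X, (AlgSp.yon S).map k, sect, hs⟩ : CurvSt.SpFamObj S 0) := by
  haveI : Smooth k.left := SmoothOfRelativeDimension.smooth 1 k.left
  have hX := IsAlgSpace.yon_obj X
  have hT := IsAlgSpace.yon_obj T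
  have hr : Representable ((yon S).map k) := ((repWith_yon_map_iff @IsProper k).2 inferInstance).1
  have hp : IsProperMor ((yon S).map k) :=
    (repWith_isProper_iff hX hT hr).1 ((repWith_yon_map_iff @IsProper k).2 inferInstance)
  refine ⟨hX, (StAlg16.locP_yon_iff k).2 inferInstance, hp,
    ⟨(StAlg16.locP_yon_iff k).2 inferInstance, hp.2.1.2, repWith_mono (P := @IsClosedImmersion) (Q := @QuasiCompact) (fun _ _ g (_ : IsClosedImmersion g) => inferInstance) hp.1⟩,
    fun x => ?_⟩
  obtain ⟨u, rfl⟩ := (Points.schemeHomeo X).surjective x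
  refine ⟨X, T, 𝟙 _, 𝟙 _, k, u, repWith_id _ X, repWith_id _ T, by simp, rfl, ?_⟩
  show FlatMor.fibreDimAt k.left u ≤ _
  rw [S2768.result 1 k.left u]

theorem smoothOfRelativeDimension_one_line {Ω : Type u} [Field Ω] :
    SmoothOfRelativeDimension 1 (CohB1.ProjSpace.toSpec 1 Ω) := ProjSpace.smoothOfRelativeDimension_toSpec 1 Ω

/-- The families with a property that the projective line has, over every geometric point. -/
theorem nonempty_fiber {Ω : Type u} [Field Ω] (t : Spec (CommRingCat.of Ω) ⟶ S)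
    (P : (CurvSt.Curves S 0).obj → Prop)
    (h : ∀ (X T : Over S) (k : X ⟶ T) [IsProper k.left] [SmoothOfRelativeDimension 1 k.left],
      P ⟨⟨T, (AlgSp.yon S).obj X, (AlgSp.yon S).map k, Fin.elim0, fun i => i.elim0⟩, isCurveFam_yon k _ _⟩) :
    Nonempty ((AlgSt.fullSub (CurvSt.Curves S 0) P).p.Fiber (Over.mk t)) := by
  let X : Over S := Over.mk (CohB1.ProjSpace.toSpec 1 Ω ≫ t)
  let k : X ⟶ Over.mk t := Over.homMk (CohB1.ProjSpace.toSpec 1 Ω) rfl
  haveI : SmoothOfRelativeDimension 1 k.left := smoothOfRelativeDimension_one_line (Ω := Ω)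
  haveI : IsProper k.left := inferInstanceAs (IsProper (CohB1.ProjSpace.toSpec 1 Ω))
  let A : (CurvSt.Curves S 0).obj :=
    ⟨⟨Over.mk t, (AlgSp.yon S).obj X, (AlgSp.yon S).map k, Fin.elim0, fun i => i.elim0⟩,
      isCurveFam_yon k _ _⟩
  exact ⟨⟨⟨A, h X (Over.mk t) k⟩, rfl⟩⟩

end Groth.Agent.CurvOpen16
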