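import Groth.Agent.Lib.CurvOpen16.Criterion
import Groth.Agent.Lib.CurveLocus.Basic
import Groth.Agent.Lib.SmoothPt12.Basic
import Groth.Agent.Lib.FibreCM5.Basic
import Groth.Agent.Lib.AlgSpDescent.SchemeSmooth
import Groth.Agent.Lib.NeronMap.Basic
import Groth.Agent.S2768
import Groth.Agent.Lib.FibDim14.BaseChange
import Groth.Agent.Lib.CMBase.Basic
import Groth.Agent.Lib.CMEquiDim4

/-!
# Smooth, relative dimension one and Cohen–Macaulay points form open loci
-/

universe u

open CategoryTheory CategoryTheory.Limits AlgebraicGeometry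

set_option linter.style.haveILetI false
set_option backward.isDefEq.respectTransparency false
set_option backward.isDefEq.respectTransparency.types false

namespace Groth.Agent.CurvOpen16

open FibreLocus

theorem flatPt_of_flat {A B : Scheme.{u}} (h : A ⟶ B) [Flat h] (a : A) : FlatPt h a := Flat.stalkMap h a

theorem smooth_iff_smoothPt {A B : Scheme.{u}} (h : A ⟶ B) : Smooth h ↔ ∀ a, SmoothPt h a := by
  refine ⟨fun hs a => ⟨⊤, trivial, inferInstance⟩, fun hs => ?_⟩
  choose U hU hUs using hs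
  exact IsZariskiLocalAtSource.of_openCover (P := @Smooth)
    (Scheme.openCoverOfIsOpenCover A U (TopologicalSpace.IsOpenCover.mk (eq_top_iff.2 fun a _ =>
      TopologicalSpace.Opens.mem_iSup.2 ⟨a, hU a⟩))) fun a => hUs a

/-- The smooth points form an open locus. -/
theorem isOpenLocus_smoothPt : IsOpenLocus (fun {A B : Scheme.{u}} (h : A ⟶ B) a => SmoothPt h a) where
  isOpen h _ _ := by
    rw [show {a | SmoothPt h a} = (h.smoothLocus : Set _) from
      Set.ext fun a => SmoothPt12.smoothPt_iff_mem h a]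
    exact h.smoothLocus.2
  bc h _ _ h' q g hsq a' := SmoothPt12.smoothPt_baseChange_iff hsq a' (Or.inl (flatPt_of_flat h _))
  precomp {A' A B} e h _ _ _ a' := by
    constructor
    · rintro ⟨U, haU, hU⟩
      let V : A.Opens := ⟨e '' U, e.isOpenMap _ U.2⟩
      refine ⟨V, ⟨a', haU, rfl⟩, ?_⟩
      let r : (U : Scheme.{u}) ⟶ V := e.resLE V U fun x hx => ⟨x, hx, rfl⟩
      haveI : Etale r := IsZariskiLocalAtSource.resLE (P := @Etale) _ inferInstance
      haveI : Surjective r := ⟨by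
        rintro ⟨_, x, hx, rfl⟩
        exact ⟨⟨x, hx⟩, V.ι.isOpenEmbedding.injective (by
          rw [← Scheme.Hom.comp_apply, Scheme.Hom.resLE_comp_ι]; rfl)⟩⟩
      refine AlgSpDescent.smooth_of_smooth_surjective_comp r _ inferInstance inferInstance ?_
      rw [Scheme.Hom.resLE_comp_ι_assoc]
      exact hU
    · rintro ⟨V, haV, hV⟩
      refine ⟨e ⁻¹ᵁ V, haV, ?_⟩
      rw [show (e ⁻¹ᵁ V).ι ≫ e ≫ h = (e ∣_ V) ≫ V.ι ≫ h from (morphismRestrict_ι_assoc e V h).symm]
      haveI := hV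
      infer_instance
  postcomp {A B C} h c _ _ _ a := by
    constructor
    · rintro ⟨U, haU, hU⟩
      refine ⟨U, haU, ?_⟩
      haveI : Smooth ((U.ι ≫ h) ≫ c) := by rw [Category.assoc]; exact hU
      exact NeronMap.smooth_of_comp (U.ι ≫ h) c
    · rintro ⟨U, haU, hU⟩
      refine ⟨U, haU, ?_⟩
      haveI := hU
      rw [← Category.assoc]
      infer_instance

theorem exists_relDim_smooth {X S : Scheme.{u}} (g : X ⟶ S) [Smooth g] (x : X) :
    ∃ (n : ℕ) (W : X.Opens), x ∈ W ∧ SmoothOfRelativeDimension n (W.ι ≫ g) := by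
  obtain ⟨U, hU, W, hW, hxW, e, hf⟩ := Smooth.exists_isStandardSmooth g x
  letI := (g.appLE U W e).hom.toAlgebra
  haveI : Algebra.IsStandardSmooth Γ(S, U) Γ(X, W) := hf
  obtain ⟨ι, σ, _, _, ⟨P⟩⟩ := Algebra.IsStandardSmooth.out (R := Γ(S, U)) (S := Γ(X, W))
  haveI : Algebra.IsStandardSmoothOfRelativeDimension P.dimension Γ(S, U) Γ(X, W) := ⟨ι, σ, _, inferInstance, P, rfl⟩
  have hW' : (W.ι ⁻¹ᵁ W : (W : Scheme.{u}).Opens) = ⊤ := W.ι_preimage_self
  refine ⟨P.dimension, W, hxW, ⟨fun z => ⟨U, hU, ⊤, ?_, trivial, ?_, ?_⟩⟩⟩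
  · exact @isAffineOpen_top _ hW
  · rintro w -
    exact e w.2
  · have eW : ⊤ ≤ W.ι ⁻¹ᵁ W := hW'.ge
    have : (W.ι ≫ g).appLE U ⊤ (by rintro w -; exact e w.2) = g.appLE U W e ≫ W.ι.appLE W ⊤ eW :=
      (Scheme.Hom.appLE_comp_appLE W.ι g U W ⊤ e eW).symm
    rw [this]
    have hiso : IsIso (W.ι.appLE W ⊤ eW) := by
      rw [Scheme.Hom.appLE]
      have : IsIso (W.ι.app W) := Scheme.Opens.ι_app_self W ▸ inferInstance
      have h2 : IsIso ((W : Scheme.{u}).presheaf.map (homOfLE eW).op) := by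
        rw [show homOfLE eW = eqToHom hW'.symm from Subsingleton.elim _ _, eqToHom_op, eqToHom_map]
        infer_instance
      infer_instance
    exact RingHom.isStandardSmoothOfRelativeDimension_respectsIso.left (g.appLE U W e).hom
      (asIso (W.ι.appLE W ⊤ eW)).commRingCatIsoToRingEquiv
      (show RingHom.IsStandardSmoothOfRelativeDimension P.dimension (g.appLE U W e).hom from
        (inferInstance : Algebra.IsStandardSmoothOfRelativeDimension P.dimension Γ(S, U) Γ(X, W)))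

theorem exists_relDim {A B : Scheme.{u}} {h : A ⟶ B} {a : A} (hs : SmoothPt h a) :
    ∃ (n : ℕ) (U : A.Opens), a ∈ U ∧ SmoothOfRelativeDimension n (U.ι ≫ h) := by
  obtain ⟨W, haW, hW⟩ := hs
  obtain ⟨n, V, haV, hV⟩ := exists_relDim_smooth (W.ι ≫ h) ⟨a, haW⟩
  haveI := hV
  have hr : a ∈ W.ι ''ᵁ V := ⟨⟨a, haW⟩, haV, rfl⟩
  refine ⟨n, W.ι ''ᵁ V, hr, ?_⟩
  have e : (W.ι ''ᵁ V).ι ≫ h = (W.ι.isoImage V).inv ≫ V.ι ≫ W.ι ≫ h := by
    rw [Scheme.Hom.isoImage_inv_ι_assoc]
  rw [e]
  have : SmoothOfRelativeDimension (0 + n) ((W.ι.isoImage V).inv ≫ (V.ι ≫ W.ι ≫ h)) := inferInstance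
  rwa [zero_add] at this

theorem fibreDimAt_of_open {A B : Scheme.{u}} (h : A ⟶ B) [LocallyOfFiniteType h] (U : A.Opens) {a : A} (ha : a ∈ U) :
    FlatMor.fibreDimAt (U.ι ≫ h) ⟨a, ha⟩ = FlatMor.fibreDimAt h a :=
  FibDim14.fibreDimAt_etale_comp U.ι h ⟨a, ha⟩

/-- Smooth of relative dimension one at the point. -/
def SmoothOnePt {A B : Scheme.{u}} (h : A ⟶ B) (a : A) : Prop :=
  SmoothPt h a ∧ FlatMor.fibreDimAt h a = ((1 : ℕ) : WithBot ℕ∞)

theorem isOpenLocus_smoothOnePt : IsOpenLocus (fun {A B : Scheme.{u}} (h : A ⟶ B) a => SmoothOnePt h a) where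
  isOpen h _ _ := isOpen_iff_forall_mem_open.2 fun a ⟨hs, hd⟩ => by
    obtain ⟨n, U, haU, hU⟩ := exists_relDim hs
    haveI := hU
    refine ⟨U, fun b hb => ⟨⟨U, hb, SmoothOfRelativeDimension.smooth n _⟩, ?_⟩, U.2, haU⟩
    rw [← fibreDimAt_of_open h U hb, ← hd, ← fibreDimAt_of_open h U haU, S2768.result n, S2768.result n]
  bc h _ _ h' q g hsq a' := by
    haveI : LocallyOfFinitePresentation h' := MorphismProperty.of_isPullback hsq inferInstance
    exact and_congr (isOpenLocus_smoothPt.bc h h' q g hsq a') (by rw [FibDim14.fibreDimAt_baseChange hsq a'])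
  precomp e h _ _ _ a' := and_congr (isOpenLocus_smoothPt.precomp e h a')
    (by rw [FibDim14.fibreDimAt_etale_comp e h a'])
  postcomp h c _ _ _ a := and_congr (isOpenLocus_smoothPt.postcomp h c a) (by
    haveI := AlgSpDecent.locallyQuasiFinite_of_etale c
    rw [FibDim14.fibreDimAt_comp_lqf h c a])

theorem smoothOfRelativeDimension_one_iff {A B : Scheme.{u}} (h : A ⟶ B) :
    SmoothOfRelativeDimension 1 h ↔ ∀ a, SmoothOnePt h a := by
  constructor
  · intro hh a
    haveI : Smooth h := SmoothOfRelativeDimension.smooth 1 h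
    exact ⟨⟨⊤, trivial, inferInstance⟩, S2768.result 1 h a⟩
  · intro H
    haveI : Smooth h := (smooth_iff_smoothPt h).2 fun a => (H a).1
    have hl : ∀ a, ∃ U : A.Opens, a ∈ U ∧ SmoothOfRelativeDimension 1 (U.ι ≫ h) := fun a => by
      obtain ⟨n, U, haU, hU⟩ := exists_relDim (H a).1
      haveI := hU
      refine ⟨U, haU, ?_⟩
      have hn := S2768.result n (U.ι ≫ h) ⟨a, haU⟩
      rw [fibreDimAt_of_open h U haU, (H a).2] at hn
      obtain rfl : 1 = n := by exact_mod_cast hn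
      exact hU
    choose U hU hUs using hl
    refine IsZariskiLocalAtSource.of_openCover (P := @SmoothOfRelativeDimension 1)
      (Scheme.openCoverOfIsOpenCover A U (TopologicalSpace.IsOpenCover.mk (eq_top_iff.2 fun a _ =>
        TopologicalSpace.Opens.mem_iSup.2 ⟨a, hU a⟩))) fun a => hUs a

/-- Cohen–Macaulayness is read on fibres. -/
theorem cm_iff {A B : Scheme.{u}} (h : A ⟶ B) [Flat h] (a : A) :
    MoreMor.IsCMAt h a ↔ LocCoh.IsCohenMacaulayLocalRing ((h.fiber (h a)).presheaf.stalk (h.asFiber a)) :=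
  and_iff_right (Flat.stalkMap h a)

theorem isOpenLocus_cm : IsOpenLocus (fun {A B : Scheme.{u}} (h : A ⟶ B) a => MoreMor.IsCMAt h a) where
  isOpen h _ _ := FibreCM5.isOpen_isCMAt h
  bc h _ _ h' q g hsq a' := by
    haveI : Flat h' := MorphismProperty.of_isPullback hsq inferInstance
    rw [cm_iff, cm_iff]
    exact FibreCM5.isCM_fibre_bc_iff hsq a'
  precomp {A' A B} e h _ _ _ a' := by
    rw [cm_iff, cm_iff]
    let s := (e ≫ h) a'
    let pr : (e ≫ h).fiber s ⟶ h.fiber s := pullback.lift ((e ≫ h).fiberι s ≫ e) ((e ≫ h).fiberToSpecResidueField s)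
      (by rw [Category.assoc]; exact (e ≫ h).fiber_fac s)
    have hpr : IsPullback ((e ≫ h).fiberι s) pr e (h.fiberι s) :=
      IsPullback.of_bot (h₂₁ := h.fiberι s) (by
        have e' : pr ≫ pullback.snd h (B.fromSpecResidueField s) = (e ≫ h).fiberToSpecResidueField s :=
          pullback.lift_snd _ _ _
        have hb : IsPullback ((e ≫ h).fiberι s) ((e ≫ h).fiberToSpecResidueField s) (e ≫ h)
            (B.fromSpecResidueField s) := IsPullback.of_hasPullback _ _
        rw [← e'] at hb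
        exact hb)
        (pullback.lift_fst _ _ _).symm (IsPullback.of_hasPullback h (B.fromSpecResidueField s))
    haveI : Etale pr := MorphismProperty.of_isPullback hpr inferInstance
    haveI : LocallyOfFiniteType (h.fiberToSpecResidueField s) :=
      inferInstanceAs (LocallyOfFiniteType (pullback.snd _ _))
    haveI : IsLocallyNoetherian (h.fiber s) := LocallyOfFiniteType.isLocallyNoetherian (h.fiberToSpecResidueField s)
    have hz : pr ((e ≫ h).asFiber a') = h.asFiber (e a') := (h.fiberι s).isEmbedding.injective (by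
      rw [← Scheme.Hom.comp_apply, ← hpr.w, Scheme.Hom.comp_apply, Scheme.Hom.fiberι_asFiber]
      exact (h.fiberι_asFiber (e a')).symm)
    rw [CurveLocus.cm_stalk_etale pr, hz]
    exact Iff.rfl
  postcomp h c _ _ _ a := by
    haveI : Flat (h ≫ c) := inferInstance
    rw [cm_iff, cm_iff]
    obtain ⟨e₁⟩ := Goren15.nonempty_asFiberEquiv (h ≫ c) a
    obtain ⟨e₂⟩ := AlgSpDecent.GorAt.nonempty_fibQuot_comp_etale h c a
    obtain ⟨e₃⟩ := Goren15.nonempty_asFiberEquiv h a
    let e := e₁.symm.trans (e₂.trans e₃)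
    exact ⟨CMBase.cm_congr e, CMBase.cm_congr e.symm⟩

/-- Cohen–Macaulay of relative dimension one at the point. -/
def CMOnePt {A B : Scheme.{u}} (h : A ⟶ B) (a : A) : Prop :=
  MoreMor.IsCMAt h a ∧ FlatMor.fibreDimAt h a = ((1 : ℕ) : WithBot ℕ∞)

theorem isOpenLocus_cmOne : IsOpenLocus (fun {A B : Scheme.{u}} (h : A ⟶ B) a => CMOnePt h a) where
  isOpen h _ _ := isOpen_iff_forall_mem_open.2 fun a ⟨hc, hd⟩ => by
    obtain ⟨W, haW, hW⟩ := CMEquiDim4.exists_nhd_fibreDimAt_eq h hc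
    exact ⟨(W : Set _) ∩ {x | MoreMor.IsCMAt h x}, fun x hx => ⟨hx.2, (hW x hx.1).trans hd⟩,
      W.2.inter (FibreCM5.isOpen_isCMAt h), haW, hc⟩
  bc h _ _ h' q g hsq a' := by
    haveI : LocallyOfFinitePresentation h' := MorphismProperty.of_isPullback hsq inferInstance
    exact and_congr (isOpenLocus_cm.bc h h' q g hsq a') (by rw [FibDim14.fibreDimAt_baseChange hsq a'])
  precomp e h _ _ _ a' := and_congr (isOpenLocus_cm.precomp e h a')
    (by rw [FibDim14.fibreDimAt_etale_comp e h a'])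
  postcomp h c _ _ _ a := and_congr (isOpenLocus_cm.postcomp h c a) (by
    haveI := AlgSpDecent.locallyQuasiFinite_of_etale c
    rw [FibDim14.fibreDimAt_comp_lqf h c a])

end Groth.Agent.CurvOpen16
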