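import Groth.Agent.Lib.CurvOpen16.Line
import Groth.Agent.Lib.QdmSlice16.Pair
import Groth.Agent.Lib.GrpdSlice19.Main
import Groth.Agent.Lib.AlgSpRel14.Chart

/-! Cohen–Macaulay families of relative dimension one at every point. -/

universe u

open CategoryTheory CategoryTheory.Limits AlgebraicGeometry

set_option linter.style.haveILetI false
set_option backward.isDefEq.respectTransparency false
set_option backward.isDefEq.respectTransparency.types false

namespace Groth.Agent.CurvOpen16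

open AlgSp Groth.Agent.AlgSpace

variable {S : Scheme.{u}}

theorem locP_and_iff {T : Over S} {X : Sp S} {f : X ⟶ (yon S).obj T} (hX : IsAlgSpace X)
    (hflat : LocP @Flat f) (hlfp : LocP @LocallyOfFinitePresentation f) :
    (LocP (fun _ _ g => ∀ x, MoreMor.IsCMAt g x) f ∧
      ∀ x : Points X, HasAtMor (fun _ _ h u => FlatMor.fibreDimAt h u = ((1 : ℕ) : WithBot ℕ∞)) f x) ↔
    LocP (allPts fun h a => CMOnePt h a) f := by
  obtain ⟨U, p, hp, hps⟩ := hX.atlas
  obtain ⟨h, hh⟩ := (yon S).map_surjective (p ≫ f)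
  rw [show LocP (fun _ _ g => ∀ x, MoreMor.IsCMAt g x) f = LocP (allPts fun h a => MoreMor.IsCMAt h a) f from rfl,
    locP_iff isOpenLocus_cm hflat hlfp hp hps hh.symm, locP_iff isOpenLocus_cmOne hflat hlfp hp hps hh.symm]
  have hh' : p ≫ f = (yon S).map h ≫ 𝟙 _ := by rw [Category.comp_id, hh]
  have hlft : LocP @LocallyOfFiniteType f := AlgSpace.locP_mono (P := @LocallyOfFinitePresentation) (Q := @LocallyOfFiniteType) (fun _ _ g (_ : LocallyOfFinitePresentation g) => inferInstance) hlfp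
  constructor
  · rintro ⟨h1, h2⟩ u
    exact ⟨h1 u, (AlgSpRel14.hasAtMor_fibreDimAt_iff (R := fun t => t = ((1 : ℕ) : WithBot ℕ∞)) hlft hp
      (repWith_id _ T) hh' u).1 (h2 _)⟩
  · intro H
    refine ⟨fun u => (H u).1, fun x => ?_⟩
    obtain ⟨u, rfl⟩ := surjective_ofPt hps x
    exact ⟨U, T, p, 𝟙 _, h, u, hp, repWith_id _ T, hh', rfl, (H u).2⟩

theorem isOpenSubstack_cmOne (hC : AlgSt.IsAlgStack Scheme.fppfPrecoverage (CurvSt.Curves S 0)) :
    AlgSt.IsOpenSubstack (CurvSt.Curves S 0) (fun A => LocP (fun _ _ g => ∀ x, MoreMor.IsCMAt g x) A.obj.f ∧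
      ∀ x : Points A.obj.X,
        HasAtMor (fun _ _ h u => FlatMor.fibreDimAt h u = ((1 : ℕ) : WithBot ℕ∞)) A.obj.f x)
      Scheme.fppfPrecoverage := by
  rw [funext fun A : (CurvSt.Curves S 0).obj => propext (locP_and_iff A.property.1 A.property.2.1 A.property.2.2.2.1.1)]
  exact isOpenSubstack_curves isOpenLocus_cmOne hC

theorem cmOne_line {X T : Over S} (k : X ⟶ T) [IsProper k.left] [SmoothOfRelativeDimension 1 k.left] :
    LocP (fun _ _ g => ∀ x, MoreMor.IsCMAt g x) ((yon S).map k) ∧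
      ∀ x : Points ((yon S).obj X),
        HasAtMor (fun _ _ h u => FlatMor.fibreDimAt h u = ((1 : ℕ) : WithBot ℕ∞)) ((yon S).map k) x := by
  haveI : Smooth k.left := SmoothOfRelativeDimension.smooth 1 k.left
  have hA := isCurveFam_yon k Fin.elim0 (fun i => i.elim0)
  exact (locP_and_iff (IsAlgSpace.yon_obj X) hA.2.1 hA.2.2.2.1.1).2
    ((locP_iff isOpenLocus_cmOne hA.2.1 hA.2.2.2.1.1 (repWith_id _ X) (repWith_id _ X) (h := k)
      (Category.id_comp _)).2 fun a =>
        ⟨(GrpdSlice19.isCMAt_iff _ _).1 (QdmSlice16.isCMAt_of_smooth k.left a), S2768.result 1 k.left a⟩)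

end Groth.Agent.CurvOpen16
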